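import Cfsg.Agent.LeU.A5.Pres
import Cfsg.Agent.LeU.A5.Top

set_option autoImplicit false
set_option maxRecDepth 100000

namespace Cfsg.Agent.LeU.A5
open Cfsg.Agent.Comp

namespace Tk1

noncomputable def t0 : Tr := (Tr.leaf (nat_lit 0x1ffffffff001ffffffff001ffffffff001ffffffff001ffffffff001ffffffff001ffffffff001ffffffff001ffffffff001ffffffff001ffffffff001ffffffff001ffffffff861ffc28810821ffc08072001ffc19031))

noncomputable def T : Tr := t0

def RT : List (List (List Nat)) := [
  [],
  [[nat_lit 0, nat_lit 0]],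
  []]

def HT : List (List (Nat × Nat × Nat)) := [
  [],
  [(0, 2, 0)],
  []]

def R : List (List Nat) :=
  [[0, 1],
   [1, 0],
   [0, 0, 0]]

def W : List (List Nat) := []

noncomputable def P : Par := ⟨T, (nat_lit 4), (nat_lit 15), (nat_lit 44), (nat_lit 11), (nat_lit 2047), (nat_lit 5), (nat_lit 31), (nat_lit 2), (nat_lit 19), (nat_lit 32), (nat_lit 0x18801), RT⟩

noncomputable def J0 : List Nat := [
  nat_lit 0x124661111111111111111111111111111111111111111]

theorem c0 : chk T (nat_lit 4) (nat_lit 15) (nat_lit 44) (nat_lit 11) (nat_lit 2047) (nat_lit 5) (nat_lit 31) (nat_lit 2) (nat_lit 19) (nat_lit 32) (nat_lit 0x18801) (nat_lit 2) (nat_lit 3) RT (nat_lit 16) J0 (nat_lit 16) = true := by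
  decide +kernel

theorem r0 : P.RowsOK 16 32 := chk_sound P _ _ _ J0 _ _ (by decide +kernel) c0

theorem index.{u} : IndexLe.{u} 2 R W 3 :=
  indexLe_of_cert P HT (by decide +kernel)
    (show P.RowsOK 16 32 from r0)

end Tk1

theorem upK_1 : CardLe (genW s [[0], [1]]) 3 :=
  CardLe.tc (V' := []) (n := 3) (m := 1) [0, 1] Tk1.index pres.sat (by decide +kernel) (by decide +kernel) (by decide +kernel) (cardLe_nil s)

namespace Tk0

noncomputable def t0 : Tr := (Tr.leaf (nat_lit 0xffffffffffff000ffffffffffff000ffffffffffff000ffffffffffff000ffffffffffff000ffffffffffff000ffffffffffff000ffffffffffff000ffffffffffff000ffffffffffff000ffffffffffff000ffffffffffff831fff052052011811fff073011073450fff010033032000fff031050030))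

noncomputable def T : Tr := t0

def RT : List (List (List Nat)) := [
  [[nat_lit 4]],
  [[nat_lit 0, nat_lit 0]],
  [[nat_lit 0, nat_lit 2, nat_lit 0, nat_lit 2, nat_lit 0]],
  []]

def HT : List (List (Nat × Nat × Nat)) := [
  [(2, 0, 0)],
  [(0, 3, 0)],
  [(0, 4, 0)],
  []]

def R : List (List Nat) :=
  [[0, 1],
   [1, 0],
   [2, 2],
   [0, 0, 0],
   [0, 2, 0, 2, 0, 2]]

def W : List (List Nat) := [[0],
   [1]]

noncomputable def P : Par := ⟨T, (nat_lit 4), (nat_lit 15), (nat_lit 60), (nat_lit 12), (nat_lit 4095), (nat_lit 5), (nat_lit 31), (nat_lit 3), (nat_lit 20), (nat_lit 32), (nat_lit 0x418801), RT⟩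

noncomputable def J0 : List Nat := [
  nat_lit 0x4d010912419a1111111111111111111111111111111111111111111111111]

theorem c0 : chk T (nat_lit 4) (nat_lit 15) (nat_lit 60) (nat_lit 12) (nat_lit 4095) (nat_lit 5) (nat_lit 31) (nat_lit 3) (nat_lit 20) (nat_lit 32) (nat_lit 0x418801) (nat_lit 2) (nat_lit 3) RT (nat_lit 16) J0 (nat_lit 16) = true := by
  decide +kernel

theorem r0 : P.RowsOK 16 32 := chk_sound P _ _ _ J0 _ _ (by decide +kernel) c0

theorem index.{u} : IndexLe.{u} 3 R W 4 :=
  indexLe_of_cert P HT (by decide +kernel)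
    (show P.RowsOK 16 32 from r0)

end Tk0

theorem upK : CardLe (genW s [[0], [1], [2]]) 12 :=
  CardLe.tc (V' := [[0], [1]]) (n := 4) (m := 3) [0, 1, 2] Tk0.index pres.sat (by decide +kernel) (by decide +kernel) (by decide +kernel) upK_1

theorem up : CardLe (gen s 4) 60 := upK.step (Top.index _ s pres.sat)

end Cfsg.Agent.LeU.A5
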